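import Groth.Prelude.Def_DualGr
import Groth.Agent.Et18.SeriesDiv
import Mathlib.RingTheory.MvPowerSeries.Substitution
import Mathlib.RingTheory.PowerSeries.Inverse
import Mathlib.RingTheory.AdicCompletion.LocalRing
import Mathlib.RingTheory.Etale.Kaehler
import Mathlib.RingTheory.Kaehler.Polynomial
import Mathlib

/-!
# A formal node cannot be smooth over a prime containing its thickness
-/

set_option autoImplicit false
set_option linter.all false

universe u

open IsLocalRing

namespace Groth.Agent.NodeSmoothH2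

variable {R : Type u} [CommRing R] [IsNoetherianRing R] [IsLocalRing R]
  {S : Type u} [CommRing S] [IsNoetherianRing S] [IsLocalRing S]

theorem exists_approx (y : Curv2.cpl S) (n : ℕ) :
    ∃ s : S, y - algebraMap S (Curv2.cpl S) s ∈ maximalIdeal (Curv2.cpl S) ^ n := by
  obtain ⟨s, hs⟩ := Ideal.Quotient.mk_surjective (y.1 n)
  refine ⟨s, ?_⟩
  rw [AdicCompletion.maximalIdeal_eq_map, ← Ideal.map_pow, ← Submodule.restrictScalars_mem S,
    ← Ideal.smul_top_eq_map, AdicCompletion.pow_smul_top_eq_ker_eval (maximalIdeal S).fg_of_isNoetherianRing,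
    LinearMap.mem_ker, map_sub, sub_eq_zero, AdicCompletion.algebraMap_apply]
  exact hs.symm

theorem mem_pow_of_map_mem (s : S) (n : ℕ) (h : algebraMap S (Curv2.cpl S) s ∈ maximalIdeal (Curv2.cpl S) ^ n) :
    s ∈ maximalIdeal S ^ n := by
  rw [AdicCompletion.maximalIdeal_eq_map, ← Ideal.map_pow, ← Submodule.restrictScalars_mem S,
    ← Ideal.smul_top_eq_map, AdicCompletion.pow_smul_top_eq_ker_eval (maximalIdeal S).fg_of_isNoetherianRing,
    LinearMap.mem_ker, AdicCompletion.algebraMap_apply] at h
  have h1 : Ideal.Quotient.mk ((maximalIdeal S) ^ n • ⊤ : Ideal S) s = 0 := h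
  simpa [Ideal.Quotient.eq_zero_iff_mem] using h1

theorem coeff_one_mem {D : Type u} [CommRing D] [IsLocalRing D] (z : PowerSeries D)
    (hz : z ∈ maximalIdeal (PowerSeries D) ^ 2) : PowerSeries.coeff 1 z ∈ maximalIdeal D := by
  rw [pow_two] at hz
  induction hz using Submodule.mul_induction_on' with
  | mem_mul_mem f hf g hg =>
    have hc : ∀ w ∈ maximalIdeal (PowerSeries D), PowerSeries.constantCoeff w ∈ maximalIdeal D := fun w hw hu =>
      hw (PowerSeries.isUnit_iff_constantCoeff.2 hu)
    rw [PowerSeries.coeff_mul, Finset.Nat.antidiagonal_succ, Finset.sum_cons]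
    simp only [Finset.Nat.antidiagonal_zero, Finset.map_singleton, Finset.sum_singleton]
    refine add_mem (Ideal.mul_mem_right _ _ ?_) (Ideal.mul_mem_left _ _ ?_)
    · simpa using hc f hf
    · simpa using hc g hg
  | add f hf g hg h1 h2 => rw [map_add]; exact add_mem h1 h2

variable [Algebra R S]

theorem D_mem_smul_top (k : ℕ) : ∀ x ∈ maximalIdeal S ^ (k + 1),
    KaehlerDifferential.D R S x ∈ maximalIdeal S ^ k • (⊤ : Submodule S (Ω[S⁄R])) := by
  induction k with
  | zero => intro x _; simp
  | succ k ih =>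
    intro x hx
    rw [pow_succ (maximalIdeal S) (k + 1)] at hx
    induction hx using Submodule.mul_induction_on' with
    | mem_mul_mem p hp q hq =>
      rw [Derivation.leibniz]
      refine add_mem (Submodule.smul_mem_smul hp trivial) ?_
      rw [pow_succ', mul_smul]
      exact Submodule.smul_mem_smul hq (ih p hp)
    | add f hf g hg h1 h2 => rw [map_add]; exact add_mem h1 h2

variable [IsAdicComplete (maximalIdeal R) R] [Algebra.EssFiniteType R S]

theorem core (a : R) (e : Curv2.cpl S ≃+* DualGr.nodeRing R a)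
    (he : ∀ r, e (algebraMap S (Curv2.cpl S) (algebraMap R S r)) =
      Ideal.Quotient.mk _ (MvPowerSeries.C (algebraMap R (Curv2.cpl R) r)))
    (p : Ideal R) [hp : p.IsPrime] (hap : a ∈ p)
    (hsm : ∀ P : Ideal S, ∀ [P.IsPrime], P.comap (algebraMap R S) = p →
      Algebra.FormallySmooth R (Localization.AtPrime P)) : False := by
  classical
  let D := R ⧸ p
  haveI : IsLocalRing D := IsLocalRing.of_surjective' _ Ideal.Quotient.mk_surjective
  haveI hmkloc : IsLocalHom (Ideal.Quotient.mk p) := Function.Surjective.isLocalHom _ Ideal.Quotient.mk_surjective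
  have hbij : Function.Bijective (algebraMap R (Curv2.cpl R)) :=
    AdicCompletion.of_bijective (maximalIdeal R) R
  let εR : R ≃+* Curv2.cpl R := RingEquiv.ofBijective _ hbij
  let ε₀ : Curv2.cpl R →+* D := (Ideal.Quotient.mk p).comp εR.symm.toRingHom
  have hε₀ : ∀ r, ε₀ (algebraMap R (Curv2.cpl R) r) = Ideal.Quotient.mk p r := fun r => by
    show Ideal.Quotient.mk p (εR.symm (εR r)) = _
    rw [RingEquiv.symm_apply_apply]
  let c : Fin 2 → Fin 2 → PowerSeries D := fun j i => if i = j then PowerSeries.X else 0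
  have hc : ∀ j, MvPowerSeries.HasSubst (c j) := fun j => MvPowerSeries.hasSubst_of_constantCoeff_zero fun i => by
    show PowerSeries.constantCoeff (if i = j then PowerSeries.X else 0) = 0
    split <;> simp
  let line : Fin 2 → MvPowerSeries (Fin 2) (Curv2.cpl R) →+* PowerSeries D := fun j =>
    (MvPowerSeries.substAlgHom (R := D) (hc j)).toRingHom.comp (MvPowerSeries.map ε₀)
  have hlX : ∀ j i, line j (MvPowerSeries.X i) = if i = j then PowerSeries.X else 0 := fun j i => by
    show MvPowerSeries.substAlgHom (hc j) (MvPowerSeries.map ε₀ (MvPowerSeries.X i)) = _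
    rw [MvPowerSeries.map_X, MvPowerSeries.substAlgHom_X]
  have hlC : ∀ j x, line j (MvPowerSeries.C x) = PowerSeries.C (ε₀ x) := fun j x => by
    show MvPowerSeries.substAlgHom (hc j) (MvPowerSeries.map ε₀ (MvPowerSeries.C x)) = _
    rw [MvPowerSeries.map_C]
    exact (MvPowerSeries.substAlgHom (R := D) (hc j)).commutes (ε₀ x)
  have hlcc : ∀ j f, PowerSeries.constantCoeff (line j f) = ε₀ (MvPowerSeries.constantCoeff f) := by
    intro j f
    have h := Et18.sum_X_mul_divVar (f - MvPowerSeries.C (MvPowerSeries.constantCoeff f)) (by simp)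
    have h' := congrArg (fun z => PowerSeries.constantCoeff (line j z)) h
    simp only [map_sum, map_mul, map_sub, hlX, hlC, PowerSeries.constantCoeff_C, apply_ite PowerSeries.constantCoeff,
      PowerSeries.constantCoeff_X, map_zero, ite_self, zero_mul, Finset.sum_const_zero] at h'
    exact (sub_eq_zero.1 h'.symm)
  have hgen : ∀ j, Ideal.span {(MvPowerSeries.X 0 * MvPowerSeries.X 1 -
      MvPowerSeries.C (algebraMap R (Curv2.cpl R) a) : MvPowerSeries (Fin 2) (Curv2.cpl R))} ≤ RingHom.ker (line j) := by
    intro j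
    rw [Ideal.span_singleton_le_iff_mem, RingHom.mem_ker, map_sub, map_mul, hlX, hlX, hlC, hε₀,
      (Ideal.Quotient.eq_zero_iff_mem).2 hap, map_zero]
    fin_cases j <;> simp
  let ρ : Fin 2 → DualGr.nodeRing R a →+* PowerSeries D := fun j => Ideal.Quotient.lift _ (line j) (hgen j)
  haveI : IsLocalRing (DualGr.nodeRing R a) := e.isLocalRing
  have hρloc : ∀ j, IsLocalHom (ρ j) := fun j => ⟨fun z hz => by
    obtain ⟨f, rfl⟩ := Ideal.Quotient.mk_surjective z
    have h1 : IsUnit (ε₀ (MvPowerSeries.constantCoeff f)) := by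
      rw [← hlcc j]; exact PowerSeries.isUnit_iff_constantCoeff.1 hz
    have h2 : IsUnit (εR.symm (MvPowerSeries.constantCoeff f)) := hmkloc.map_nonunit _ h1
    have h3 : IsUnit (MvPowerSeries.constantCoeff f) := by simpa using h2.map εR
    exact (MvPowerSeries.isUnit_iff_constantCoeff.2 h3).map _⟩
  let ι : S →+* Curv2.cpl S := algebraMap S (Curv2.cpl S)
  let τ : Fin 2 → Curv2.cpl S →+* PowerSeries D := fun j => (ρ j).comp e.toRingHom
  let σ : Fin 2 → S →+* PowerSeries D := fun j => (τ j).comp ι
  have hτM : ∀ j n z, z ∈ maximalIdeal (Curv2.cpl S) ^ n → τ j z ∈ maximalIdeal (PowerSeries D) ^ n := by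
    intro j n
    have h1 : (maximalIdeal (Curv2.cpl S)).map (τ j) ≤ maximalIdeal (PowerSeries D) := by
      refine Ideal.map_le_iff_le_comap.2 fun z hz => ?_
      rw [Ideal.mem_comap]
      intro hu
      haveI := hρloc j
      have hu' : IsUnit (e z) := IsLocalHom.map_nonunit (f := ρ j) (e z) hu
      exact hz (by simpa using hu'.map e.symm)
    intro z hz
    exact Ideal.pow_right_mono h1 n (Ideal.map_pow (τ j) _ n ▸ Ideal.mem_map_of_mem _ hz)
  have hσC : ∀ j r, σ j (algebraMap R S r) = PowerSeries.C (Ideal.Quotient.mk p r) := fun j r => by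
    show ρ j (e (algebraMap S (Curv2.cpl S) (algebraMap R S r))) = _
    rw [he]
    show line j _ = _
    rw [hlC, hε₀]
  have hσev : ∀ s, PowerSeries.constantCoeff (σ 0 s) = PowerSeries.constantCoeff (σ 1 s) := fun s => by
    obtain ⟨f, hf⟩ := Ideal.Quotient.mk_surjective (e (ι s))
    show PowerSeries.constantCoeff (ρ 0 (e (ι s))) = PowerSeries.constantCoeff (ρ 1 (e (ι s)))
    rw [← hf]
    show PowerSeries.constantCoeff (line 0 f) = PowerSeries.constantCoeff (line 1 f)
    rw [hlcc, hlcc]
  -- the variables and their approximations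
  let U : Fin 2 → Curv2.cpl S := fun i => e.symm (Ideal.Quotient.mk _ (MvPowerSeries.X i))
  choose x hx using fun i n => exists_approx (U i) n
  have hUτ : ∀ j i, τ j (U i) = if i = j then PowerSeries.X else 0 := fun j i => by
    show ρ j (e (e.symm _)) = _
    rw [RingEquiv.apply_symm_apply]
    exact hlX j i
  have hσx : ∀ j i n, (if i = j then PowerSeries.X else 0) - σ j (x i n) ∈ maximalIdeal (PowerSeries D) ^ n := by
    intro j i n
    have h := hτM j n _ (hx i n)
    rw [map_sub, hUτ] at h
    exact h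
  have hUmax : ∀ i, U i ∈ maximalIdeal (Curv2.cpl S) := fun i hu => by
    have h := hu.map (τ i)
    rw [hUτ, if_pos rfl] at h
    exact PowerSeries.X_ne_zero (R := D) (by
      have h' := PowerSeries.isUnit_iff_constantCoeff.1 h
      simp at h')
  have hxmem : ∀ i n, 1 ≤ n → x i n ∈ maximalIdeal S := fun i n hn => by
    have h1 : ι (x i n) ∈ maximalIdeal (Curv2.cpl S) := by
      have h2 := Ideal.pow_le_self (by omega : n ≠ 0) (hx i n)
      have h3 := sub_mem (hUmax i) h2
      rwa [sub_sub_cancel] at h3
    simpa using mem_pow_of_map_mem (x i n) 1 (by rwa [pow_one])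
  have hxdiff : ∀ i n, 2 ≤ n → x i n - x i 2 ∈ maximalIdeal S ^ 2 := fun i n hn => by
    refine mem_pow_of_map_mem _ 2 ?_
    have h1 := Ideal.pow_le_pow_right hn (hx i n)
    have h2 := sub_mem (hx i 2) h1
    rw [map_sub]
    convert h2 using 1
    ring
  let d := KaehlerDifferential.D R S
  let es : Fin 2 → Ω[S⁄R] := fun i => d (x i 2)
  -- generation
  have hspan : Submodule.span S (Set.range es) = ⊤ := by
    refine Submodule.eq_top_iff'.2 ?_
    suffices h : (⊤ : Submodule S (Ω[S⁄R])) ≤ Submodule.span S (Set.range es) by exact fun z => h trivial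
    refine Submodule.le_of_le_smul_of_le_jacobson_bot (I := maximalIdeal S) Module.Finite.fg_top
      (IsLocalRing.maximalIdeal_le_jacobson _) ?_
    rw [← KaehlerDifferential.span_range_derivation R S, Submodule.span_le]
    rintro _ ⟨s, rfl⟩
    rw [KaehlerDifferential.span_range_derivation R S]
    obtain ⟨f, hf⟩ := Ideal.Quotient.mk_surjective (e (ι s))
    let r := εR.symm (MvPowerSeries.constantCoeff f)
    have hsum := Et18.sum_X_mul_divVar (f - MvPowerSeries.C (MvPowerSeries.constantCoeff f)) (by simp)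
    rw [Fin.sum_univ_two] at hsum
    let G : Fin 2 → Curv2.cpl S := fun i => e.symm (Ideal.Quotient.mk _
      (Et18.divVar i (f - MvPowerSeries.C (MvPowerSeries.constantCoeff f))))
    choose g hg using fun i => exists_approx (G i) 1
    have hιs : ι s = ι (algebraMap R S r) + (U 0 * G 0 + U 1 * G 1) := by
      apply e.injective
      simp only [map_add, map_mul, U, G, RingEquiv.apply_symm_apply]
      rw [← hf, show e (ι (algebraMap R S r)) = _ from he r, show algebraMap R (Curv2.cpl R) r =
        MvPowerSeries.constantCoeff f from εR.apply_symm_apply _, ← map_mul, ← map_mul, ← map_add, ← map_add, hsum,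
        add_sub_cancel]
    have hw : s - algebraMap R S r - (x 0 2 * g 0 + x 1 2 * g 1) ∈ maximalIdeal S ^ 2 := by
      refine mem_pow_of_map_mem _ 2 ?_
      simp only [map_sub, map_add, map_mul]
      show ι s - ι (algebraMap R S r) - (ι (x 0 2) * ι (g 0) + ι (x 1 2) * ι (g 1)) ∈ _
      have hterm : ∀ i, U i * G i - ι (x i 2) * ι (g i) ∈ maximalIdeal (Curv2.cpl S) ^ 2 := fun i => by
        have h1 : U i * (G i - ι (g i)) ∈ maximalIdeal (Curv2.cpl S) ^ 2 := by
          rw [pow_two]; exact Ideal.mul_mem_mul (hUmax i) (by simpa using hg i)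
        have h2 : (U i - ι (x i 2)) * ι (g i) ∈ maximalIdeal (Curv2.cpl S) ^ 2 := Ideal.mul_mem_right _ _ (hx i 2)
        convert add_mem h1 h2 using 1
        ring
      convert add_mem (hterm 0) (hterm 1) using 1
      rw [hιs]
      ring
    have h1 := D_mem_smul_top (R := R) 1 _ hw
    rw [pow_one] at h1
    have h2 : d (x 0 2 * g 0 + x 1 2 * g 1) ∈ Submodule.span S (Set.range es) ⊔ maximalIdeal S • ⊤ := by
      have ht : ∀ i, d (x i 2 * g i) ∈ Submodule.span S (Set.range es) ⊔ maximalIdeal S • ⊤ := fun i => by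
        rw [Derivation.leibniz]
        exact add_mem (Submodule.mem_sup_right (Submodule.smul_mem_smul (hxmem i 2 (by norm_num)) trivial))
          (Submodule.mem_sup_left (Submodule.smul_mem _ _ (Submodule.subset_span ⟨i, rfl⟩)))
      rw [map_add]
      exact add_mem (ht 0) (ht 1)
    have h3 := add_mem (Submodule.mem_sup_right (S := Submodule.span S (Set.range es)) h1) h2
    rw [← map_add, sub_add_cancel, map_sub, Derivation.map_algebraMap, sub_zero] at h3
    exact h3
  have hcoef : ∀ (I : Ideal S) (z : Ω[S⁄R]), z ∈ I • (⊤ : Submodule S (Ω[S⁄R])) →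
      ∃ β : Fin 2 → S, (∀ i, β i ∈ I) ∧ ∑ i, β i • es i = z := by
    intro I z hz
    rw [← hspan] at hz
    obtain ⟨β, hβ, hz⟩ := (Submodule.mem_ideal_smul_span_iff_exists_sum I es z).1 hz
    exact ⟨β, hβ, by rwa [Finsupp.sum_fintype] at hz; simp⟩
  -- the point over `p`
  let L := FractionRing D
  let evD : S →+* D := PowerSeries.constantCoeff.comp (σ 0)
  let evL : S →+* L := (algebraMap D L).comp evD
  letI : Algebra S L := evL.toAlgebra
  haveI : IsScalarTower R S L := IsScalarTower.of_algebraMap_eq fun r => by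
    show _ = algebraMap D L (PowerSeries.constantCoeff (σ 0 (algebraMap R S r)))
    rw [hσC, PowerSeries.constantCoeff_C]
    exact IsScalarTower.algebraMap_apply R D L r
  let P : Ideal S := RingHom.ker evD
  haveI hP : P.IsPrime := RingHom.ker_isPrime evD
  have hPp : P.comap (algebraMap R S) = p := by
    ext r
    show PowerSeries.constantCoeff (σ 0 (algebraMap R S r)) = 0 ↔ _
    rw [hσC, PowerSeries.constantCoeff_C, Ideal.Quotient.eq_zero_iff_mem]
  haveI := hsm P hPp
  let SP := Localization.AtPrime P
  haveI : Algebra.EssFiniteType S SP := Algebra.EssFiniteType.of_isLocalization SP P.primeCompl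
  haveI : Algebra.EssFiniteType R SP := Algebra.EssFiniteType.comp R S SP
  let M' := Ω[SP⁄R]
  haveI : Module.Free SP M' := Module.free_of_flat_of_isLocalRing
  let l : Ω[S⁄R] →ₗ[S] M' := KaehlerDifferential.map R R S SP
  haveI : IsLocalizedModule P.primeCompl l := KaehlerDifferential.isLocalizedModule_map R S SP P.primeCompl
  -- two derivations
  let der : Fin 2 → Derivation R S L := fun j => Derivation.mk'
    { toFun := fun s => algebraMap D L (PowerSeries.coeff 1 (σ j s))
      map_add' := fun s t => by simp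
      map_smul' := fun r s => by
        simp only [Algebra.smul_def, map_mul, hσC, PowerSeries.coeff_C_mul, RingHom.id_apply]
        rw [IsScalarTower.algebraMap_apply R D L]
        rfl }
    fun s t => by
      have hev : ∀ w, PowerSeries.constantCoeff (σ j w) = evD w := fun w => by
        fin_cases j
        · rfl
        · exact (hσev w).symm
      show algebraMap D L (PowerSeries.coeff 1 (σ j (s * t))) =
        evL s * algebraMap D L (PowerSeries.coeff 1 (σ j t)) + evL t * algebraMap D L (PowerSeries.coeff 1 (σ j s))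
      rw [map_mul, PowerSeries.coeff_mul, Finset.Nat.antidiagonal_succ, Finset.sum_cons]
      simp only [Finset.Nat.antidiagonal_zero, Finset.map_singleton, Finset.sum_singleton]
      simp [evL, hev, map_add, map_mul]
      ring
  let Δ : Ω[S⁄R] →ₗ[S] (Fin 2 → L) := LinearMap.pi fun j => (der j).liftKaehlerDifferential
  have hΔ : ∀ i j, Δ (es i) j = algebraMap D L (PowerSeries.coeff 1 (σ j (x i 2))) := fun i j =>
    (der j).liftKaehlerDifferential_comp_D _
  let Mx : Matrix (Fin 2) (Fin 2) D := fun i j => PowerSeries.coeff 1 (σ j (x i 2))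
  have hMx : Mx.map (residue D) = 1 := by
    ext i j
    have h := (residue_eq_zero_iff _).2 (coeff_one_mem _ (hσx j i 2))
    rw [map_sub, map_sub, sub_eq_zero] at h
    simp only [Matrix.map_apply, Mx, Matrix.one_apply, ← h]
    split <;> simp
  have hdet : IsUnit (Mx.map (algebraMap D L)).det := by
    rw [← RingHom.mapMatrix_apply, ← RingHom.map_det]
    refine IsUnit.map _ (IsLocalRing.residue_ne_zero_iff_isUnit _ |>.1 ?_)
    rw [RingHom.map_det, RingHom.mapMatrix_apply, hMx, Matrix.det_one]
    exact one_ne_zero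
  -- rank two
  have hunit : ∀ y : P.primeCompl, IsUnit (evL y) := fun y => by
    refine isUnit_iff_ne_zero.2 fun h => y.2 ?_
    exact (IsFractionRing.injective D L) (h.trans (map_zero _).symm)
  letI : Algebra SP L := (IsLocalization.lift (S := SP) hunit).toAlgebra
  haveI : IsScalarTower S SP L := IsScalarTower.of_algebraMap_eq fun s => (IsLocalization.lift_eq hunit s).symm
  have hend : ∀ y : P.primeCompl, IsUnit (algebraMap S (Module.End S (Fin 2 → L)) y) := fun y => by
    refine (Module.End.isUnit_iff _).2 ?_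
    have h0 : evL (y : S) ≠ 0 := (hunit y).ne_zero
    refine ⟨fun v w h => ?_, fun v => ⟨(evL (y : S))⁻¹ • v, ?_⟩⟩
    · funext i
      have := congrFun h i
      exact mul_left_cancel₀ h0 this
    · funext i
      show evL (y : S) * ((evL (y : S))⁻¹ * v i) = v i
      rw [← mul_assoc, mul_inv_cancel₀ h0, one_mul]
  let Δ₀ : M' →ₗ[S] (Fin 2 → L) := IsLocalizedModule.lift P.primeCompl l Δ hend
  let Δ' : M' →ₗ[SP] (Fin 2 → L) := Δ₀.extendScalarsOfIsLocalization P.primeCompl SP
  have hΔ' : ∀ z, Δ' (l z) = Δ z := fun z => IsLocalizedModule.lift_apply P.primeCompl l Δ hend z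
  have hLspan : Submodule.span L (Set.range fun i => Δ (es i)) = ⊤ := by
    have hli : LinearIndependent L (Mx.map (algebraMap D L)).row :=
      Matrix.linearIndependent_rows_of_isUnit ((Matrix.isUnit_iff_isUnit_det _).2 hdet)
    have he' : (fun i => Δ (es i)) = (Mx.map (algebraMap D L)).row := funext fun i => funext (hΔ i)
    rw [he']
    exact hli.span_eq_top_of_card_eq_finrank (by simp)
  let b := Module.Free.chooseBasis SP M'
  have hlow : 2 ≤ Module.finrank SP M' := by
    have hle : Submodule.span L (Set.range fun i => Δ (es i)) ≤ Submodule.span L (Set.range fun k => Δ' (b k)) := by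
      refine Submodule.span_le.2 ?_
      rintro _ ⟨i, rfl⟩
      show Δ (es i) ∈ _
      rw [← hΔ', ← b.sum_repr (l (es i)), map_sum]
      refine Submodule.sum_mem _ fun k _ => ?_
      rw [map_smul, ← algebraMap_smul L]
      exact Submodule.smul_mem _ _ (Submodule.subset_span ⟨k, rfl⟩)
    rw [hLspan, top_le_iff] at hle
    have h := finrank_range_le_card (R := L) fun k => Δ' (b k)
    rw [Set.finrank, hle, finrank_top, Module.finrank_fin_fun] at h
    rwa [Module.finrank_eq_card_chooseBasisIndex]
  let φ : (Fin 2 → SP) →ₗ[SP] M' := Fintype.linearCombination SP fun i => l (es i)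
  have hφ : Function.Surjective φ := by
    rw [← LinearMap.range_eq_top, Fintype.range_linearCombination]
    have := span_eq_top_of_isLocalizedModule SP P.primeCompl l hspan
    rwa [← Set.range_comp] at this
  have hfr : Module.finrank SP M' = 2 := le_antisymm (by simpa using φ.finrank_le_finrank_of_surjective hφ) hlow
  let b' := b.reindex (Fintype.equivFinOfCardEq (by rw [← Module.finrank_eq_card_chooseBasisIndex, hfr]))
  have hφinj : Function.Injective φ := by
    have h := OrzechProperty.injective_of_surjective_endomorphism (b'.equivFun.toLinearMap ∘ₗ φ)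
      (b'.equivFun.surjective.comp hφ)
    exact Function.Injective.of_comp (f := b'.equivFun) (g := φ) h
  have hrel : ∀ γ : Fin 2 → S, ∑ i, γ i • es i = 0 → ∀ i, ∃ t : P.primeCompl, (t : S) * γ i = 0 := by
    intro γ hγ i
    refine (IsLocalization.map_eq_zero_iff P.primeCompl SP _).1 ?_
    refine congrFun (hφinj (a₁ := fun i => algebraMap S SP (γ i)) (a₂ := 0) ?_) i
    rw [map_zero, Fintype.linearCombination_apply]
    simp only [algebraMap_smul, ← map_smul, ← map_sum, hγ, map_zero]
  let K : Submodule S (Fin 2 → S) := LinearMap.ker (Fintype.linearCombination S es)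
  obtain ⟨t, ht, htK⟩ : ∃ t : S, t ∉ P ∧ ∀ γ ∈ K, t • γ = 0 := by
    obtain ⟨G, hG⟩ := (inferInstance : IsNoetherian S (Fin 2 → S)).noetherian K
    have hk : ∀ g : {g // g ∈ G}, ∃ t : P.primeCompl, (t : S) • (g.1 : Fin 2 → S) = 0 := by
      intro g
      have hg : g.1 ∈ K := hG ▸ Submodule.subset_span g.2
      choose t ht using hrel g.1 (by
        rw [← Fintype.linearCombination_apply]; exact hg)
      refine ⟨t 0 * t 1, funext fun i => ?_⟩
      fin_cases i
      · show (t 0 : S) * t 1 * g.1 0 = 0
        rw [mul_right_comm, ht 0, zero_mul]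
      · show (t 0 : S) * t 1 * g.1 1 = 0
        rw [mul_assoc, ht 1, mul_zero]
    choose t ht using hk
    refine ⟨((∏ g, t g : P.primeCompl) : S), (∏ g, t g : P.primeCompl).2, fun γ hγ => ?_⟩
    rw [← hG] at hγ
    induction hγ using Submodule.span_induction with
    | mem g hg =>
      obtain ⟨c, hc⟩ := Finset.dvd_prod_of_mem t (Finset.mem_univ (⟨g, hg⟩ : {g // g ∈ G}))
      rw [hc, Submonoid.coe_mul, mul_comm, mul_smul, ht ⟨g, hg⟩, smul_zero]
    | zero => rw [smul_zero]
    | add _ _ _ _ h1 h2 => rw [smul_add, h1, h2, add_zero]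
    | smul c _ _ h1 => rw [smul_comm, h1, smul_zero]
  -- the approximate relation, read on the branch `u = 0`
  have hkey : ∀ k : ℕ, σ 1 t * PowerSeries.X ∈ maximalIdeal (PowerSeries D) ^ (k + 1) := by
    intro k
    let n := k + 2
    let w := x 0 n * x 1 n - algebraMap R S a
    have hUU : U 0 * U 1 = ι (algebraMap R S a) := by
      apply e.injective
      show e (e.symm _ * e.symm _) = e (algebraMap S (Curv2.cpl S) (algebraMap R S a))
      rw [he, map_mul, RingEquiv.apply_symm_apply, RingEquiv.apply_symm_apply, ← map_mul,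
        Ideal.Quotient.mk_eq_mk_iff_sub_mem]
      exact Ideal.mem_span_singleton_self _
    have hw : w ∈ maximalIdeal S ^ n := by
      refine mem_pow_of_map_mem _ n ?_
      have h1 := add_mem (Ideal.mul_mem_left _ (U 0) (hx 1 n)) (Ideal.mul_mem_right (ι (x 1 n)) _ (hx 0 n))
      have h2 : U 0 * (U 1 - ι (x 1 n)) + (U 0 - ι (x 0 n)) * ι (x 1 n) = - ι w := by
        simp only [w, map_sub, map_mul, ← hUU]
        ring
      rw [h2] at h1
      simpa using neg_mem h1
    obtain ⟨α, hα, hαe⟩ := hcoef _ _ (D_mem_smul_top (R := R) (k + 1) w hw)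
    have hdiff : ∀ i, ∃ β : Fin 2 → S, (∀ j, β j ∈ maximalIdeal S) ∧ d (x i n) = es i + ∑ j, β j • es j := fun i => by
      have h := D_mem_smul_top (R := R) 1 _ (hxdiff i n (by omega))
      rw [pow_one] at h
      obtain ⟨β, hβ, hβe⟩ := hcoef _ _ h
      exact ⟨β, hβ, by rw [hβe, map_sub]; abel⟩
    choose β hβ hβe using hdiff
    let γ : Fin 2 → S := ![x 0 n * β 1 0 + x 1 n * (1 + β 0 0) - α 0, x 0 n * (1 + β 1 1) + x 1 n * β 0 1 - α 1]
    have hγK : γ ∈ K := by
      show Fintype.linearCombination S es γ = 0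
      rw [Fintype.linearCombination_apply]
      have h1 : d w = ∑ i, α i • es i := hαe.symm
      rw [show d w = x 0 n • d (x 1 n) + x 1 n • d (x 0 n) by
        simp only [w, d, map_sub, Derivation.map_algebraMap, sub_zero, Derivation.leibniz]] at h1
      rw [hβe, hβe, Fin.sum_univ_two, Fin.sum_univ_two, Fin.sum_univ_two] at h1
      simp only [Fin.sum_univ_two, γ, Matrix.cons_val_zero, Matrix.cons_val_one]
      linear_combination (norm := module) h1
    have h0 := congrArg (σ 1) (congrFun (htK γ hγK) 0)
    simp only [Pi.smul_apply, smul_eq_mul, Pi.zero_apply, map_mul, map_zero, γ, Matrix.cons_val_zero, map_add,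
      map_sub, map_one] at h0
    have hM : ∀ {m} {s : S}, s ∈ maximalIdeal S ^ m → σ 1 s ∈ maximalIdeal (PowerSeries D) ^ m := fun {m s} hs => by
      refine hτM 1 m _ ?_
      rw [AdicCompletion.maximalIdeal_eq_map, ← Ideal.map_pow]
      exact Ideal.mem_map_of_mem _ hs
    have e0 : σ 1 (x 0 n) ∈ maximalIdeal (PowerSeries D) ^ (k + 1) := by
      have h := hσx 1 0 n
      rw [if_neg (by decide), zero_sub, neg_mem_iff] at h
      exact Ideal.pow_le_pow_right (by omega) h
    have e1 : PowerSeries.X - σ 1 (x 1 n) ∈ maximalIdeal (PowerSeries D) ^ (k + 1) := by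
      have h := hσx 1 1 n
      rw [if_pos rfl] at h
      exact Ideal.pow_le_pow_right (by omega) h
    have ea : σ 1 (α 0) ∈ maximalIdeal (PowerSeries D) ^ (k + 1) := hM (hα 0)
    have hu : IsUnit (1 + σ 1 (β 0 0)) := by
      have hb : σ 1 (β 0 0) ∈ maximalIdeal (PowerSeries D) := by
        simpa using hM (m := 1) (s := β 0 0) (by simpa using hβ 0 0)
      by_contra hh
      exact (maximalIdeal.isMaximal (PowerSeries D)).ne_top ((Ideal.eq_top_iff_one _).2
        (by simpa using sub_mem (show 1 + σ 1 (β 0 0) ∈ maximalIdeal _ from hh) hb))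
    rw [← Ideal.unit_mul_mem_iff_mem _ hu]
    have h := add_mem (add_mem (Ideal.mul_mem_left _ (σ 1 t * (1 + σ 1 (β 0 0))) e1)
      (Ideal.mul_mem_left _ (-(σ 1 t * σ 1 (β 1 0))) e0)) (Ideal.mul_mem_left _ (σ 1 t) ea)
    convert h using 1
    linear_combination h0
  have hzero : σ 1 t * PowerSeries.X = 0 := by
    have h : σ 1 t * PowerSeries.X ∈ ⨅ i, maximalIdeal (PowerSeries D) ^ i := by
      refine Ideal.mem_iInf.2 fun i => ?_
      exact Ideal.pow_le_pow_right (by omega) (hkey i)
    rwa [Ideal.iInf_pow_eq_bot_of_isLocalRing _ (maximalIdeal.isMaximal (PowerSeries D)).ne_top, Ideal.mem_bot] at h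
  refine ht ?_
  show PowerSeries.constantCoeff (σ 0 t) = 0
  rw [hσev]
  rcases mul_eq_zero.1 hzero with h | h
  · rw [h, map_zero]
  · exact absurd h PowerSeries.X_ne_zero

end Groth.Agent.NodeSmoothH2
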